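import Cfsg.Agent.Lib.PGroup.UniqueOrderP
import Cfsg.Agent.Lib.Coprime.Basic
import Mathlib.GroupTheory.SpecificGroups.Quaternion

/-!
# Finite `p`-groups in which any two subgroups of the same order are isomorphic

They are cyclic, elementary abelian, quaternion of order 8, or extraspecial of order `p³` and
exponent `p`.
-/

set_option autoImplicit false

namespace Cfsg.Agent.IsoSubgroups

open Subgroup

universe u

variable {p : ℕ}

/-- A generalised quaternion group of order at least 16 has non-isomorphic subgroups of order 8. -/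
theorem quaternion_not_iso {n : ℕ} (hn : 2 ≤ n)
    (h : ∀ H K : Subgroup (QuaternionGroup (2 ^ n)), Nat.card H = Nat.card K → Nonempty (H ≃* K)) :
    False := by
  haveI : NeZero (2 ^ n) := ⟨by positivity⟩
  haveI : Fact (Nat.Prime 2) := ⟨Nat.prime_two⟩
  set x : QuaternionGroup (2 ^ n) := QuaternionGroup.xa 0
  have hcard : Nat.card (QuaternionGroup (2 ^ n)) = 2 ^ (n + 2) := by
    rw [Nat.card_eq_fintype_card, QuaternionGroup.card]; ring
  obtain ⟨H, hH, hxH⟩ := Sylow.exists_subgroup_card_pow_prime_le (p := 2) (n := 2) (m := 3)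
    (hcard ▸ pow_dvd_pow 2 (by omega)) (zpowers x)
    (by rw [Nat.card_zpowers, QuaternionGroup.orderOf_xa]; norm_num) (by norm_num)
  set y : QuaternionGroup (2 ^ n) := QuaternionGroup.a 1 ^ (2 ^ (n - 2))
  have hy : orderOf y = 8 := by
    have h2 : 2 * 2 ^ n = 8 * 2 ^ (n - 2) := by
      rw [← pow_succ', show n + 1 = 3 + (n - 2) by omega, pow_add]; norm_num
    rw [orderOf_pow' _ (by positivity), QuaternionGroup.orderOf_a_one, h2, Nat.gcd_mul_left_left,
      Nat.mul_div_cancel _ (by positivity)]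
  obtain ⟨e⟩ := h H (zpowers y) (by rw [hH, Nat.card_zpowers, hy]; norm_num)
  haveI : IsCyclic H := isCyclic_of_surjective e.symm.toMonoidHom e.symm.surjective
  obtain ⟨g, hg⟩ := IsCyclic.exists_generator (α := H)
  obtain ⟨k, hk⟩ := hg ⟨x, hxH (mem_zpowers x)⟩
  have hg8 : orderOf (g : QuaternionGroup (2 ^ n)) = 8 := by
    rw [Subgroup.orderOf_coe, orderOf_eq_card_of_forall_mem_zpowers hg, hH]; norm_num
  obtain ⟨j, hj⟩ : ∃ j, (g : QuaternionGroup (2 ^ n)) = QuaternionGroup.a j := by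
    rcases hgv : (g : QuaternionGroup (2 ^ n)) with j | j
    · exact ⟨j, rfl⟩
    · rw [hgv, QuaternionGroup.orderOf_xa] at hg8; omega
  have hgk : ∀ m : ℤ, ∃ i, (g : QuaternionGroup (2 ^ n)) ^ m = QuaternionGroup.a i := by
    intro m
    have hpow : ∀ l : ℕ, ∃ i, (g : QuaternionGroup (2 ^ n)) ^ l = QuaternionGroup.a i := by
      intro l
      induction l with
      | zero => exact ⟨0, by rw [pow_zero, QuaternionGroup.a_zero]⟩
      | succ l ih =>
        obtain ⟨i, hi⟩ := ih
        exact ⟨i + j, by rw [pow_succ, hi, hj, QuaternionGroup.a_mul_a]⟩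
    obtain ⟨l, hl⟩ := mem_powers_iff_mem_zpowers.2 (⟨m, rfl⟩ :
      (g : QuaternionGroup (2 ^ n)) ^ m ∈ zpowers (g : QuaternionGroup (2 ^ n)))
    obtain ⟨i, hi⟩ := hpow l
    exact ⟨i, hl.symm.trans hi⟩
  obtain ⟨i, hi⟩ := hgk k
  have := congrArg Subtype.val hk
  simp only [Subgroup.coe_zpow] at this
  rw [hi] at this
  exact absurd this (by simp [x])

theorem exists_commutator_central {Q : Type u} [Group Q] [Finite Q] [Fact p.Prime]
    (hQ : IsPGroup p Q) (hnc : ¬ ∀ x y : Q, x * y = y * x) :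
    ∃ a b : Q, (∀ x : Q, x * b * x⁻¹ * b⁻¹ ∈ center Q) ∧ a * b ≠ b * a := by
  have hZ : center Q ≠ ⊤ := fun e => hnc fun x y => (mem_center_iff.1 (e ▸ mem_top y) x)
  haveI : Nontrivial (Q ⧸ center Q) := QuotientGroup.nontrivial_iff.2 hZ
  haveI := (hQ.to_quotient (center Q)).center_nontrivial
  obtain ⟨⟨bq, hbq⟩, hb1⟩ := exists_ne (1 : center (Q ⧸ center Q))
  obtain ⟨b, rfl⟩ := QuotientGroup.mk_surjective bq
  have hb : b ∉ center Q := fun hb => hb1 (Subtype.ext ((QuotientGroup.eq_one_iff b).2 hb))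
  obtain ⟨a, ha⟩ := not_forall.1 fun e => hb (mem_center_iff.2 e)
  refine ⟨a, b, fun x => (QuotientGroup.eq_one_iff _).1 ?_, ha⟩
  rw [QuotientGroup.mk_mul, QuotientGroup.mk_mul, QuotientGroup.mk_mul, QuotientGroup.mk_inv,
    QuotientGroup.mk_inv, mem_center_iff.1 hbq x, mul_inv_cancel_right, mul_inv_cancel]

theorem card_zpowers_sup {Q : Type u} [Group Q] [Finite Q] [hp : Fact p.Prime] {b c : Q}
    (hb : orderOf b = p) (hc : orderOf c = p) (hcb : Commute c b) (hnot : b ∉ zpowers c) :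
    Nat.card (zpowers b ⊔ zpowers c : Subgroup Q) = p ^ 2 := by
  rw [Coprime.card_sup_of_le_normalizer, Nat.card_zpowers, Nat.card_zpowers, hb, hc, pow_two]
  · refine le_trans ?_ (Subgroup.centralizer_le_normalizer _)
    rw [zpowers_le, mem_centralizer_iff]
    rintro _ ⟨k, rfl⟩
    exact (hcb.zpow_left k).eq
  · rw [inf_comm]
    refine ((Subgroup.eq_bot_iff_forall _).2 fun x hx => ?_)
    by_contra hx1
    have hxb : orderOf x = p := by
      have h1 : orderOf x ∣ p := by
        rw [← hb, ← Nat.card_zpowers b]; exact Subgroup.orderOf_dvd_natCard _ hx.2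
      exact (hp.out.eq_one_or_self_of_dvd _ h1).resolve_left (fun e => hx1 (orderOf_eq_one_iff.1 e))
    have h1 : zpowers x = zpowers b :=
      eq_of_le_of_card_ge (zpowers_le.2 hx.2) (by rw [Nat.card_zpowers, Nat.card_zpowers, hb, hxb])
    exact hnot (zpowers_le.2 hx.1 (h1 ▸ mem_zpowers b))

theorem nonabelian_case {Q : Type u} [Group Q] [Finite Q] [hp : Fact p.Prime] (hQ : IsPGroup p Q)
    (hiso : ∀ H K : Subgroup Q, Nat.card H = Nat.card K → Nonempty (H ≃* K))
    (hexp : ∀ x : Q, x ^ p = 1) (hnc : ¬ ∀ x y : Q, x * y = y * x) :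
    p ≠ 2 ∧ Nat.card Q = p ^ 3 ∧ Monoid.exponent Q = p := by
  classical
  refine ⟨fun e => hnc fun x y => ?_, ?_, ?_⟩
  · have h2 : ∀ z : Q, z⁻¹ = z := fun z => inv_eq_of_mul_eq_one_right (by
      have := hexp z; rwa [e, pow_two] at this)
    calc x * y = (x * y)⁻¹ := (h2 _).symm
      _ = y * x := by rw [mul_inv_rev, h2, h2]
  swap
  · have h1 : Monoid.exponent Q ∣ p := Monoid.exponent_dvd_of_forall_pow_eq_one hexp
    refine (hp.out.eq_one_or_self_of_dvd _ h1).resolve_left fun e => hnc fun x y => ?_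
    haveI := Monoid.exp_eq_one_iff.1 e
    exact Subsingleton.elim _ _
  obtain ⟨a, b, hbz, hab⟩ := exists_commutator_central hQ hnc
  set Z := center Q
  have hord : ∀ x : Q, x ≠ 1 → orderOf x = p := fun x hx => orderOf_eq_prime (hexp x) hx
  set c := a * b * a⁻¹ * b⁻¹ with hc
  have hcZ : c ∈ Z := hbz a
  have hc1 : c ≠ 1 := fun e => hab (by
    rwa [hc, mul_inv_eq_one, mul_inv_eq_iff_eq_mul] at e)
  have hb1 : b ≠ 1 := fun e => hab (by rw [e, mul_one, one_mul])
  have hbZ : b ∉ Z := fun e => hab (mem_center_iff.1 e a)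
  have hcb : Commute c b := (mem_center_iff.1 hcZ b).symm
  set B := zpowers b ⊔ zpowers c with hB
  have hBcard : Nat.card B = p ^ 2 := card_zpowers_sup (hord b hb1) (hord c hc1) hcb
    fun e => hbZ (zpowers_le.2 hcZ e)
  have hBcomm : ∀ x ∈ B, x * b = b * x := by
    intro x hx
    have hle : B ≤ centralizer ({b} : Set Q) :=
      sup_le (zpowers_le.2 (mem_centralizer_singleton_iff.2 rfl))
        (zpowers_le.2 (mem_centralizer_singleton_iff.2 hcb.eq))
    exact mem_centralizer_singleton_iff.1 (hle hx)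
  have haB : a ∉ B := fun e => hab (hBcomm a e)
  have ha1 : a ≠ 1 := fun e => haB (e ▸ B.one_mem)
  have hnorm : zpowers a ≤ normalizer (B : Set Q) := by
    have key : ∀ w : Q, w ∈ zpowers a → ∀ x ∈ B,
        w * x * w⁻¹ ∈ B := by
      intro w hw x hx
      have hle : B ≤ B.comap (MulAut.conj w).toMonoidHom := by
        refine sup_le (zpowers_le.2 ?_) (zpowers_le.2 ?_)
        · show w * b * w⁻¹ ∈ B
          obtain ⟨k, rfl⟩ := hw
          have hpow : ∀ l : ℕ, a ^ l * b * (a ^ l)⁻¹ ∈ B := by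
            intro l
            induction l with
            | zero => simpa using mem_sup_left (mem_zpowers b)
            | succ l ih =>
              have e : a ^ (l + 1) * b * (a ^ (l + 1))⁻¹ = a ^ l * (c * b) * (a ^ l)⁻¹ := by
                rw [hc, pow_succ]; group
              have e2 : a ^ l * (c * b) * (a ^ l)⁻¹ = c * (a ^ l * b * (a ^ l)⁻¹) := by
                rw [← mul_assoc (a ^ l) c b, mem_center_iff.1 hcZ (a ^ l)]; group
              rw [e, e2]
              exact mul_mem (mem_sup_right (mem_zpowers c)) ih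
          obtain ⟨l, hl⟩ := mem_powers_iff_mem_zpowers.2 (⟨k, rfl⟩ : a ^ k ∈ zpowers a)
          simp only at hl ⊢
          rw [← hl]
          exact hpow l
        · show w * c * w⁻¹ ∈ B
          rw [mem_center_iff.1 hcZ w, mul_inv_cancel_right]
          exact mem_sup_right (mem_zpowers c)
      exact hle hx
    intro w hw
    rw [mem_normalizer_iff]
    refine fun x => ⟨key w hw x, fun h => ?_⟩
    have := key w⁻¹ (inv_mem hw) _ h
    simpa [mul_assoc] using this
  have hdis : zpowers a ⊓ B = ⊥ := by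
    refine ((Subgroup.eq_bot_iff_forall _).2 fun x hx => ?_)
    by_contra hx1
    have h1 : zpowers x = zpowers a := eq_of_le_of_card_ge (zpowers_le.2 hx.1)
      (by rw [Nat.card_zpowers, Nat.card_zpowers, hord x hx1, hord a ha1])
    exact haB (zpowers_le.2 hx.2 (h1 ▸ mem_zpowers a))
  set T := zpowers a ⊔ B
  have hT : Nat.card T = p ^ 3 := by
    rw [Coprime.card_sup_of_le_normalizer hnorm hdis, Nat.card_zpowers, hord a ha1, hBcard]; ring
  -- no abelian subgroup has order at least `p³`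
  obtain ⟨N, hN⟩ := IsPGroup.iff_card.1 hQ
  have hN3 : p ^ 3 ≤ p ^ N := by rw [← hT, ← hN]; exact card_le_card_group T
  rw [hN]
  congr 1
  have h3N : 3 ≤ N := (Nat.pow_le_pow_iff_right hp.out.one_lt).1 hN3
  by_contra hne
  have hnoab : ∀ A : Subgroup Q, (∀ x ∈ A, ∀ y ∈ A, x * y = y * x) → Nat.card A < p ^ 3 := by
    intro A hA
    by_contra hle
    push Not at hle
    obtain ⟨l, hl⟩ := IsPGroup.iff_card.1 (hQ.to_subgroup A)
    have h3l : 3 ≤ l := (Nat.pow_le_pow_iff_right hp.out.one_lt).1 (hl ▸ hle)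
    obtain ⟨A', hA'⟩ := Sylow.exists_subgroup_card_pow_prime (G := A) p (hl ▸ pow_dvd_pow p h3l)
    obtain ⟨e⟩ := hiso (A'.map A.subtype) T
      (by rw [card_map_of_injective A.subtype_injective, hA', hT])
    refine hab (congrArg Subtype.val (e.symm.injective ?_ :
      (⟨a, mem_sup_left (mem_zpowers a)⟩ : T) * ⟨b, mem_sup_right (mem_sup_left (mem_zpowers b))⟩ =
        ⟨b, mem_sup_right (mem_sup_left (mem_zpowers b))⟩ * ⟨a, mem_sup_left (mem_zpowers a)⟩))
    rw [map_mul, map_mul]
    exact Subtype.ext (hA _ (map_subtype_le _ (SetLike.coe_mem _)) _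
      (map_subtype_le _ (SetLike.coe_mem _)))
  set E := closure (((Z : Subgroup Q) : Set Q) ∪ {b}) with hE
  have hEcomm : ∀ x ∈ E, ∀ y ∈ E, x * y = y * x := by
    haveI : IsMulCommutative E := isMulCommutative_closure (by
      rintro x (hx | rfl) y (hy | rfl)
      · exact (mem_center_iff.1 hx y).symm
      · exact (mem_center_iff.1 hx _).symm
      · exact mem_center_iff.1 hy _
      · rfl)
    exact fun x hx y hy =>
      congrArg Subtype.val (IsMulCommutative.is_comm.comm (⟨x, hx⟩ : E) ⟨y, hy⟩)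
  have hEc : E ≤ centralizer ({b} : Set Q) := fun x hx =>
    mem_centralizer_singleton_iff.2 (hEcomm x hx b (subset_closure (Set.mem_union_right _ rfl)))
  have hZE : Z < E := lt_of_le_not_ge (fun x hx => subset_closure (Set.mem_union_left _ hx))
    fun h => hbZ (h (subset_closure (Set.mem_union_right _ rfl)))
  have hgrow : ∀ {H K : Subgroup Q}, H < K → p * Nat.card H ≤ Nat.card K := by
    intro H K hHK
    obtain ⟨i, hi⟩ := IsPGroup.iff_card.1 (hQ.to_subgroup H)
    obtain ⟨j, hj⟩ := IsPGroup.iff_card.1 (hQ.to_subgroup K)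
    have hlt : Nat.card H < Nat.card K :=
      lt_of_not_ge fun h => hHK.ne (eq_of_le_of_card_ge hHK.le h)
    rw [hi, hj] at hlt ⊢
    rw [← pow_succ']
    exact Nat.pow_le_pow_right hp.out.pos ((Nat.pow_lt_pow_iff_right hp.out.one_lt).1 hlt)
  have hZp : Nat.card Z = p := by
    obtain ⟨i, hi⟩ := IsPGroup.iff_card.1 (hQ.to_subgroup Z)
    have h1 := hnoab E hEcomm
    have h2 := hgrow hZE
    have hi2 : i < 2 := by
      have h3 : p ^ (i + 1) < p ^ 3 := by rw [pow_succ']; rw [hi] at h2; omega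
      have := (Nat.pow_lt_pow_iff_right hp.out.one_lt).1 h3
      omega
    have hi1 : i ≠ 0 := fun e => hc1 (by
      rw [e, pow_zero] at hi
      exact mem_bot.1 (card_eq_one.1 hi ▸ hcZ))
    rw [hi, show i = 1 by omega, pow_one]
  set C := centralizer ({b} : Set Q)
  have hCcard : p ^ 3 ≤ Nat.card C := by
    let φ : Q →* Z :=
      { toFun := fun x => ⟨x * b * x⁻¹ * b⁻¹, hbz x⟩
        map_one' := Subtype.ext (by simp)
        map_mul' := fun x y => Subtype.ext (by
          have h1 : x * (y * b * y⁻¹ * b⁻¹) * x⁻¹ = y * b * y⁻¹ * b⁻¹ := by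
            rw [mem_center_iff.1 (hbz y) x, mul_inv_cancel_right]
          show x * y * b * (x * y)⁻¹ * b⁻¹ = x * b * x⁻¹ * b⁻¹ * (y * b * y⁻¹ * b⁻¹)
          rw [mem_center_iff.1 (hbz y) (x * b * x⁻¹ * b⁻¹), ← h1]
          group) }
    have hk : φ.ker = C := by
      ext x
      simp only [MonoidHom.mem_ker, C, mem_centralizer_singleton_iff]
      rw [← OneMemClass.coe_eq_one]
      show x * b * x⁻¹ * b⁻¹ = 1 ↔ _
      rw [mul_inv_eq_one, mul_inv_eq_iff_eq_mul]
    have h1 : φ.ker.index ≤ p := by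
      rw [index_ker, ← hZp]; exact card_le_card_group φ.range
    have h2 := φ.ker.card_mul_index
    rw [hk, hN] at h2
    rw [hk] at h1
    have h3 : p ^ 4 ≤ p ^ N := Nat.pow_le_pow_right hp.out.pos (by omega)
    have : Nat.card C * C.index ≤ Nat.card C * p := Nat.mul_le_mul_left _ h1
    rw [h2] at this
    have h4 : p ^ 3 * p ≤ Nat.card C * p := by
      rw [← pow_succ]
      exact h3.trans this
    exact Nat.le_of_mul_le_mul_right h4 hp.out.pos
  obtain ⟨x, hxC, hxE⟩ : ∃ x ∈ C, x ∉ E := by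
    by_contra h
    push Not at h
    have h1 := Subgroup.card_le_of_le (h : C ≤ E)
    have h2 := hnoab E hEcomm
    omega
  set A := closure ((E : Set Q) ∪ {x}) with hA
  have hxb : x * b = b * x := mem_centralizer_singleton_iff.1 hxC
  have hAcomm : ∀ y ∈ A, ∀ z ∈ A, y * z = z * y := by
    have hxe : ∀ y ∈ E, y * x = x * y := by
      intro y hy
      have hle : E ≤ centralizer ({x} : Set Q) := by
        rw [hE, closure_le]
        rintro w (hw | rfl) <;> rw [SetLike.mem_coe, mem_centralizer_singleton_iff]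
        · exact (mem_center_iff.1 hw x).symm
        · exact hxb.symm
      exact mem_centralizer_singleton_iff.1 (hle hy)
    haveI : IsMulCommutative A := isMulCommutative_closure (by
      rintro y (hy | rfl) z (hz | rfl)
      · exact hEcomm y hy z hz
      · exact hxe y hy
      · exact (hxe z hz).symm
      · rfl)
    exact fun y hy z hz =>
      congrArg Subtype.val (IsMulCommutative.is_comm.comm (⟨y, hy⟩ : A) ⟨z, hz⟩)
  have hEA : E < A := lt_of_le_not_ge (fun y hy => subset_closure (Set.mem_union_left _ hy))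
    fun h => hxE (h (subset_closure (Set.mem_union_right _ rfl)))
  have h1 := hnoab A hAcomm
  have h2 := hgrow hEA
  have h3 := hgrow hZE
  rw [hZp] at h3
  have h4 : p * (p * p) ≤ Nat.card A := le_trans (Nat.mul_le_mul_left p h3) h2
  rw [show p * (p * p) = p ^ 3 by ring] at h4
  omega

theorem main {Q : Type u} [Group Q] [Finite Q] [hp : Fact p.Prime] (hQ : IsPGroup p Q)
    (hiso : ∀ H K : Subgroup Q, Nat.card H = Nat.card K → Nonempty (H ≃* K)) :
    IsCyclic Q ∨ ((∀ x y : Q, x * y = y * x) ∧ ∀ x : Q, x ^ p = 1) ∨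
      (p = 2 ∧ Nonempty (Q ≃* QuaternionGroup 2)) ∨
      (p ≠ 2 ∧ (¬ ∀ x y : Q, x * y = y * x) ∧ Nat.card Q = p ^ 3 ∧ Monoid.exponent Q = p) := by
  classical
  by_cases huniq : ∀ H K : Subgroup Q, Nat.card H = p → Nat.card K = p → H = K
  · rcases PGroup.cyclic_or_quaternion_of_unique hQ huniq with h | ⟨rfl, n, hn1, -, ⟨e⟩⟩
    · exact Or.inl h
    refine Or.inr (Or.inr (Or.inl ⟨rfl, ?_⟩))
    rcases eq_or_lt_of_le hn1 with rfl | hn2
    · exact ⟨e⟩
    · refine (quaternion_not_iso hn2 fun H K hHK => ?_).elim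
      obtain ⟨f⟩ := hiso (H.map e.symm.toMonoidHom) (K.map e.symm.toMonoidHom)
        (by rw [card_map_of_injective e.symm.injective, card_map_of_injective e.symm.injective, hHK])
      exact ⟨(e.symm.subgroupMap H).trans (f.trans (e.symm.subgroupMap K).symm)⟩
  simp only [not_forall] at huniq
  obtain ⟨H₀, K₀, hH₀, hK₀, hne⟩ := huniq
  haveI : Nontrivial Q := by
    by_contra h
    rw [not_nontrivial_iff_subsingleton] at h
    exact hne (Subsingleton.elim _ _)
  haveI := hQ.center_nontrivial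
  obtain ⟨⟨z₀, hz₀⟩, hz₀1⟩ := exists_ne (1 : center Q)
  have hz₀1' : z₀ ≠ 1 := fun e => hz₀1 (Subtype.ext e)
  obtain ⟨k, hk⟩ := IsPGroup.iff_orderOf.1 hQ z₀
  have hk0 : k ≠ 0 := fun e => hz₀1' (orderOf_eq_one_iff.1 (by rw [hk, e, pow_zero]))
  set z := z₀ ^ p ^ (k - 1) with hz
  have hzo : orderOf z = p := by
    rw [hz, orderOf_pow' _ (pow_pos hp.out.pos _).ne', hk,
      Nat.gcd_eq_right (pow_dvd_pow p (Nat.sub_le k 1))]
    rw [Nat.div_eq_iff_eq_mul_left (pow_pos hp.out.pos _) (pow_dvd_pow p (Nat.sub_le k 1)),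
      ← pow_succ', show k - 1 + 1 = k by omega]
  have hzc : z ∈ center Q := pow_mem hz₀ _
  have hother : ∃ H : Subgroup Q, Nat.card H = p ∧ H ≠ zpowers z := by
    by_cases h : H₀ = zpowers z
    · exact ⟨K₀, hK₀, fun e => hne (h.trans e.symm)⟩
    · exact ⟨H₀, hH₀, h⟩
  obtain ⟨H, hH, hHz⟩ := hother
  obtain ⟨⟨w, hw⟩, hwo⟩ := exists_prime_orderOf_dvd_card' (G := H) p (hH ▸ dvd_rfl)
  rw [Subgroup.orderOf_mk] at hwo
  have hwz : w ∉ zpowers z := fun e => hHz (by
    have h1 : zpowers w = H := eq_of_le_of_card_ge (zpowers_le.2 hw) (by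
      rw [Nat.card_zpowers, hwo, hH])
    rw [← h1]
    exact eq_of_le_of_card_ge (zpowers_le.2 e) (by rw [Nat.card_zpowers, Nat.card_zpowers, hwo, hzo]))
  set E := zpowers w ⊔ zpowers z
  have hzw : Commute z w := (mem_center_iff.1 hzc w).symm
  have hEcard : Nat.card E = p ^ 2 := card_zpowers_sup hwo hzo hzw hwz
  have hEexp : ∀ y ∈ E, y ^ p = 1 := by
    intro y hy
    rw [show E = closure ({w, z} : Set Q) by
      rw [Set.insert_eq, Subgroup.closure_union, ← zpowers_eq_closure, ← zpowers_eq_closure]] at hy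
    haveI : IsMulCommutative (closure ({w, z} : Set Q)) := isMulCommutative_closure (by
      rintro y (rfl | rfl) y' (rfl | rfl)
      exacts [rfl, hzw.symm.eq, hzw.eq, rfl])
    induction hy using Subgroup.closure_induction with
    | mem v hv =>
      rcases hv with rfl | rfl
      · rw [← hwo, pow_orderOf_eq_one]
      · rw [← hzo, pow_orderOf_eq_one]
    | one => exact one_pow p
    | mul v v' hv hv' iv iv' =>
      have : Commute v v' := congrArg Subtype.val
        (IsMulCommutative.is_comm.comm (⟨v, hv⟩ : closure ({w, z} : Set Q)) ⟨v', hv'⟩)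
      rw [this.mul_pow, iv, iv', one_mul]
    | inv v _ iv => rw [inv_pow, iv, inv_one]
  have hexp : ∀ x : Q, x ^ p = 1 := by
    intro x
    by_contra hx
    obtain ⟨i, hi⟩ := IsPGroup.iff_orderOf.1 hQ x
    have hi2 : 2 ≤ i := by
      by_contra h
      refine hx (orderOf_dvd_iff_pow_eq_one.1 ?_)
      rw [hi]
      exact (pow_dvd_pow p (show i ≤ 1 by omega)).trans (pow_one p).dvd
    set y := x ^ p ^ (i - 2) with hy
    have hyo : orderOf y = p ^ 2 := by
      rw [hy, orderOf_pow' _ (pow_pos hp.out.pos _).ne', hi,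
        Nat.gcd_eq_right (pow_dvd_pow p (Nat.sub_le i 2))]
      rw [Nat.div_eq_iff_eq_mul_left (pow_pos hp.out.pos _) (pow_dvd_pow p (Nat.sub_le i 2)),
        ← pow_add, show 2 + (i - 2) = i by omega]
    obtain ⟨e⟩ := hiso (zpowers y) E (by rw [Nat.card_zpowers, hyo, hEcard])
    have h1 : (⟨y, mem_zpowers y⟩ : zpowers y) ^ p = 1 := by
      apply e.injective
      rw [map_pow, map_one]
      exact Subtype.ext (hEexp _ (SetLike.coe_mem _))
    have h2 := orderOf_dvd_of_pow_eq_one (congrArg Subtype.val h1 : y ^ p = 1)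
    rw [hyo] at h2
    have h3 := Nat.le_of_dvd hp.out.pos h2
    have h4 : p < p ^ 2 := by rw [pow_two]; exact lt_mul_of_one_lt_left hp.out.pos hp.out.one_lt
    omega
  by_cases hc : ∀ x y : Q, x * y = y * x
  · exact Or.inr (Or.inl ⟨hc, hexp⟩)
  · obtain ⟨h2, h3, h4⟩ := nonabelian_case hQ hiso hexp hc
    exact Or.inr (Or.inr (Or.inr ⟨h2, hc, h3, h4⟩))

end Cfsg.Agent.IsoSubgroups
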